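import Mathlib

set_option linter.unusedSectionVars false
set_option linter.unusedVariables false
set_option linter.unusedSimpArgs false
set_option autoImplicit false
set_option linter.style.haveILetI false
set_option maxHeartbeats 400000

/-!
# `R[x₁..xₙ]` is free of rank `pⁿ` over `R[x₁ᵖ..xₙᵖ]` (helper6)
-/

universe u v

open MvPolynomial

namespace Groth.Agent.Lib.Helper6.FrobSm

/-- `MvPolynomial σ R` regarded as an algebra over itself through `expand p`. -/
def ExpT (σ : Type v) (R : Type u) (p : ℕ) [CommRing R] : Type (max u v) := MvPolynomial σ R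

section

variable (σ : Type v) (R : Type u) [CommRing R] (p : ℕ)

noncomputable instance : CommRing (ExpT σ R p) := inferInstanceAs (CommRing (MvPolynomial σ R))

/-- identity map to the copy -/
noncomputable def toExpT : MvPolynomial σ R ≃+* ExpT σ R p := RingEquiv.refl _

noncomputable instance : Algebra (MvPolynomial σ R) (ExpT σ R p) :=
  ((toExpT σ R p : MvPolynomial σ R →+* ExpT σ R p).comp (expand p (R := R) (σ := σ)).toRingHom).toAlgebra

theorem algebraMap_expT (f : MvPolynomial σ R) :
    algebraMap (MvPolynomial σ R) (ExpT σ R p) f = toExpT σ R p (expand p f) := rfl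

theorem smul_expT (f : MvPolynomial σ R) (g : ExpT σ R p) :
    f • g = toExpT σ R p (expand p f * (toExpT σ R p).symm g) := by
  rw [Algebra.smul_def, algebraMap_expT]
  rfl

end

section Basis

variable (σ : Type v) [Fintype σ] (R : Type u) [CommRing R] (p : ℕ)

/-- the exponent vector attached to a residue vector -/
noncomputable def expo (e : σ → Fin p) : σ →₀ ℕ := Finsupp.equivFunOnFinite.symm (fun i => (e i : ℕ))

theorem expo_apply (e : σ → Fin p) (i : σ) : expo σ p e i = (e i : ℕ) := rfl

/-- the candidate basis -/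
noncomputable def bvec (e : σ → Fin p) : ExpT σ R p := toExpT σ R p (monomial (expo σ p e) 1)

variable {σ R p}

theorem coeff_lincomb (hp : p ≠ 0) (c : (σ → Fin p) →₀ MvPolynomial σ R) (q : σ →₀ ℕ)
    (e₀ : σ → Fin p) :
    coeff (p • q + expo σ p e₀) ((toExpT σ R p).symm
      (Finsupp.linearCombination (MvPolynomial σ R) (bvec σ R p) c)) = coeff q (c e₀) := by
  classical
  rw [Finsupp.linearCombination_apply, Finsupp.sum, map_sum, coeff_sum]
  rw [Finset.sum_eq_single e₀]
  · rw [smul_expT]
    change coeff _ (expand p (c e₀) * monomial (expo σ p e₀) 1) = _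
    rw [coeff_mul_monomial', if_pos (le_add_self), add_tsub_cancel_right, mul_one,
      coeff_expand_smul p hp]
  · intro e _ hne
    rw [smul_expT]
    change coeff _ (expand p (c e) * monomial (expo σ p e) 1) = 0
    rw [coeff_mul_monomial']
    split_ifs with hle
    · rw [mul_one]
      obtain ⟨i, hi⟩ : ∃ i, e i ≠ e₀ i := by
        by_contra hcon
        push Not at hcon
        exact hne (funext hcon)
      apply coeff_expand_of_not_dvd (i := i)
      have hle_i : (e i : ℕ) ≤ p * q i + (e₀ i : ℕ) := by
        have := hle i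
        simpa [expo_apply] using this
      have h1 : (p • q + expo σ p e₀ - expo σ p e) i = p * q i + (e₀ i : ℕ) - (e i : ℕ) := by
        simp [expo_apply]
      rw [h1]
      intro hdvd
      have he : (e i : ℕ) < p := (e i).2
      have he₀ : (e₀ i : ℕ) < p := (e₀ i).2
      have hne' : (e i : ℕ) ≠ (e₀ i : ℕ) := fun h => hi (Fin.ext h)
      obtain ⟨k, hk⟩ := hdvd
      rcases lt_or_gt_of_ne hne' with hlt | hgt
      · -- e i < e₀ i : p q + (e₀ - e) with 0 < e₀ - e < p
        have h2 : p * q i + (e₀ i : ℕ) - (e i : ℕ) = p * q i + ((e₀ i : ℕ) - (e i : ℕ)) := by omega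
        rw [h2] at hk
        have h3 : p ∣ (e₀ i : ℕ) - (e i : ℕ) := by
          have : p ∣ p * q i + ((e₀ i : ℕ) - (e i : ℕ)) := ⟨k, hk⟩
          exact (Nat.dvd_add_right (dvd_mul_right p (q i))).mp this
        have h4 := Nat.le_of_dvd (by omega) h3
        omega
      · -- e₀ i < e i
        have hq : 0 < q i := by
          by_contra h0
          have : q i = 0 := by omega
          rw [this] at hle_i
          omega
        have h2 : p * q i + (e₀ i : ℕ) - (e i : ℕ)
            = p * (q i - 1) + (p + (e₀ i : ℕ) - (e i : ℕ)) := by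
          have : p * q i = p * (q i - 1) + p := by
            conv_lhs => rw [show q i = (q i - 1) + 1 by omega]
            ring
          omega
        rw [h2] at hk
        have h3 : p ∣ p + (e₀ i : ℕ) - (e i : ℕ) := by
          have : p ∣ p * (q i - 1) + (p + (e₀ i : ℕ) - (e i : ℕ)) := ⟨k, hk⟩
          exact (Nat.dvd_add_right (dvd_mul_right p (q i - 1))).mp this
        have h4 := Nat.le_of_dvd (by omega) h3
        omega
    · rfl
  · intro h
    rw [Finsupp.notMem_support_iff.mp h, zero_smul, map_zero, coeff_zero]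

theorem linearIndependent_bvec (hp : p ≠ 0) :
    LinearIndependent (MvPolynomial σ R) (bvec σ R p) := by
  rw [linearIndependent_iff_injective_finsuppLinearCombination, injective_iff_map_eq_zero]
  intro c hc
  ext e₀ q
  have := coeff_lincomb hp c q e₀
  rw [hc, map_zero, coeff_zero] at this
  rw [Finsupp.zero_apply, coeff_zero]
  exact this.symm

/-- quotient and remainder of an exponent vector -/
noncomputable def quo (p : ℕ) (m : σ →₀ ℕ) : σ →₀ ℕ :=
  Finsupp.equivFunOnFinite.symm (fun i => m i / p)

/-- remainder vector -/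
def rem (p : ℕ) (hp : p ≠ 0) (m : σ →₀ ℕ) : σ → Fin p :=
  fun i => ⟨m i % p, Nat.mod_lt _ (Nat.pos_of_ne_zero hp)⟩

theorem quo_rem (hp : p ≠ 0) (m : σ →₀ ℕ) : p • quo p m + expo σ p (rem p hp m) = m := by
  ext i
  simp only [Finsupp.coe_add, Finsupp.coe_smul, Pi.add_apply, Pi.smul_apply, smul_eq_mul]
  change p * (m i / p) + m i % p = m i
  exact Nat.div_add_mod (m i) p

theorem span_bvec (hp : p ≠ 0) :
    ⊤ ≤ Submodule.span (MvPolynomial σ R) (Set.range (bvec σ R p)) := by
  intro g _
  obtain ⟨f, rfl⟩ := (toExpT σ R p).surjective g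
  clear ‹_ ∈ (⊤ : Submodule (MvPolynomial σ R) (ExpT σ R p))›
  induction f using MvPolynomial.induction_on' with
  | monomial m r =>
    have h1 : toExpT σ R p (monomial m r)
        = (monomial (quo p m) r : MvPolynomial σ R) • bvec σ R p (rem p hp m) := by
      rw [smul_expT]
      congr 1
      change _ = expand p (monomial (quo p m) r) * monomial (expo σ p (rem p hp m)) 1
      rw [expand_monomial, monomial_mul, mul_one, quo_rem hp]
    rw [h1]
    exact Submodule.smul_mem _ _ (Submodule.subset_span ⟨_, rfl⟩)
  | add f g hf hg =>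
    rw [map_add]
    exact Submodule.add_mem _ hf hg

/-- the basis of `R[x]` over `R[xᵖ]` -/
noncomputable def expBasis (hp : p ≠ 0) :
    Module.Basis (σ → Fin p) (MvPolynomial σ R) (ExpT σ R p) :=
  Module.Basis.mk (linearIndependent_bvec hp) (span_bvec hp)

theorem free_expT (hp : p ≠ 0) : Module.Free (MvPolynomial σ R) (ExpT σ R p) :=
  Module.Free.of_basis (expBasis hp)

theorem finite_expT (hp : p ≠ 0) : Module.Finite (MvPolynomial σ R) (ExpT σ R p) :=
  Module.Finite.of_basis (expBasis hp)

theorem finrank_expT [Nontrivial R] (hp : p ≠ 0) :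
    Module.finrank (MvPolynomial σ R) (ExpT σ R p) = p ^ Fintype.card σ := by
  classical
  rw [Module.finrank_eq_card_basis (expBasis hp)]
  simp

theorem flat_expand (hp : p ≠ 0) : (expand p (R := R) (σ := σ)).toRingHom.Flat := by
  haveI := free_expT (σ := σ) (R := R) hp
  exact (inferInstance : Module.Flat (MvPolynomial σ R) (ExpT σ R p))

end Basis

end Groth.Agent.Lib.Helper6.FrobSm
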