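import Mathlib
import Groth.Prelude.Def_FrobAlg
import Groth.Agent.Lib.Helper6.FrobSm.Expand

set_option linter.unusedSectionVars false
set_option linter.unusedVariables false
set_option linter.unusedSimpArgs false
set_option autoImplicit false
set_option linter.style.haveILetI false
set_option maxHeartbeats 400000

/-!
# The relative Frobenius of a polynomial ring is `expand p` up to an isomorphism (helper6)
-/

universe u v

open TensorProduct MvPolynomial

namespace Groth.Agent.Lib.Helper6.FrobSm

section

variable (p : ℕ) [hp : Fact p.Prime] (A : Type u) [CommRing A] [CharP A p]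
  (σ : Type v) [Fintype σ]

/-- the ring isomorphism `A[x] ⊗_{A,F} A ≃ A[x]` -/
noncomputable def rho : FrobAlg.BaseChange p A (MvPolynomial σ A) ≃+* MvPolynomial σ A :=
  ((Algebra.TensorProduct.comm A (MvPolynomial σ A) (FrobAlg.Twist p A)).toRingEquiv.trans
    (MvPolynomial.algebraTensorAlgEquiv (σ := σ) A (FrobAlg.Twist p A)).toRingEquiv).trans
    (MvPolynomial.mapEquiv σ (FrobAlg.toTwist p A).symm)

theorem rho_tmul (f : MvPolynomial σ A) (t : FrobAlg.Twist p A) :
    rho p A σ (f ⊗ₜ[A] t) = C ((FrobAlg.toTwist p A).symm t) * MvPolynomial.map (frobenius A p) f := by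
  change MvPolynomial.map ((FrobAlg.toTwist p A).symm : FrobAlg.Twist p A →+* A)
    (MvPolynomial.algebraTensorAlgEquiv (σ := σ) A (FrobAlg.Twist p A) (t ⊗ₜ[A] f)) = _
  rw [MvPolynomial.algebraTensorAlgEquiv_tmul, MvPolynomial.smul_eq_C_mul, map_mul, map_C,
    MvPolynomial.map_map]
  rfl

theorem relFrob_eq [CharP (MvPolynomial σ A) p] :
    FrobAlg.relFrob p A (MvPolynomial σ A)
      = (expand p (R := A) (σ := σ)).toRingHom.comp (rho p A σ : _ →+* MvPolynomial σ A) := by
  apply RingHom.ext
  intro z
  induction z using TensorProduct.induction_on with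
  | zero => rw [map_zero, map_zero]
  | add x y hx hy => rw [map_add, map_add, hx, hy]
  | tmul f t =>
    change f ^ p * algebraMap A (MvPolynomial σ A) ((FrobAlg.toTwist p A).symm t)
      = expand p (rho p A σ (f ⊗ₜ[A] t))
    rw [rho_tmul, map_mul, expand_C, ← map_expand, map_frobenius_expand, mul_comm]
    rfl

theorem relFrob_flat [CharP (MvPolynomial σ A) p] :
    (FrobAlg.relFrob p A (MvPolynomial σ A)).Flat := by
  rw [relFrob_eq]
  exact RingHom.Flat.comp (RingHom.Flat.of_bijective (rho p A σ).bijective)
    (flat_expand hp.out.ne_zero)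

end

end Groth.Agent.Lib.Helper6.FrobSm
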