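import Mathlib
import Groth.Agent.Lib.Helper6.Versch.EtaleRadicial

set_option linter.unusedSectionVars false
set_option linter.unusedVariables false
set_option linter.unusedSimpArgs false
set_option autoImplicit false
set_option linter.style.haveILetI false
set_option maxHeartbeats 400000

/-!
# Universe-polymorphic version of `bijective_of_etale_of_pow_mem` (helper6)
-/

universe u v w

open TensorProduct

namespace Groth.Agent.Lib.Helper6.FrobSm

open Groth.Agent.Lib.Helper6.Versch.ER

theorem bijective_of_etale_of_pow_mem' {T : Type u} {W : Type v} {B : Type w} [CommRing T] [CommRing W] [CommRing B]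
    [Algebra T W] [Algebra T B] [Algebra.Etale T W] [Algebra.Etale T B] (p : ℕ) [hp : Fact p.Prime]
    (hpT : (p : T) = 0) (f : W →ₐ[T] B) (h1 : ∀ b : B, ∃ w, f w = b ^ p)
    (h2 : ∀ w, f w = 0 → w ^ p = 0) : Function.Bijective f := by
  letI : Algebra W B := f.toRingHom.toAlgebra
  haveI : IsScalarTower T W B := IsScalarTower.of_algebraMap_eq (fun t => (f.commutes t).symm)
  haveI : Algebra.Etale W B := Algebra.Etale.of_restrictScalars T W B
  have halg : ∀ w, algebraMap W B w = f w := fun w => rfl
  have hpBB : ((p : ℕ) : B ⊗[W] B) = 0 := by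
    rw [← map_natCast (algebraMap T (B ⊗[W] B)) p, hpT, map_zero]
  have hgen : ∀ b : B, ((1 : B) ⊗ₜ[W] b - b ⊗ₜ[W] (1 : B)) ^ p = 0 := by
    intro b
    rw [sub_pow_of_cast_eq_zero p hpBB, Algebra.TensorProduct.tmul_pow,
      Algebra.TensorProduct.tmul_pow, one_pow]
    obtain ⟨w, hw⟩ := h1 b
    rw [← hw]
    have : f w = w • (1 : B) := by rw [Algebra.smul_def, mul_one]; rfl
    rw [this, TensorProduct.tmul_smul, TensorProduct.smul_tmul', sub_self]
  let Np : Ideal (B ⊗[W] B) :=
    { carrier := {x | x ^ p = 0}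
      add_mem' := by
        intro x y hx hy
        change (x + y) ^ p = 0
        have := sub_pow_of_cast_eq_zero p hpBB x (-y)
        rw [sub_neg_eq_add] at this
        rw [this, hx, neg_pow, hy, mul_zero, sub_zero]
      zero_mem' := by
        change (0 : B ⊗[W] B) ^ p = 0
        exact zero_pow hp.out.ne_zero
      smul_mem' := by
        intro c x hx
        change (c * x) ^ p = 0
        rw [mul_pow, hx, mul_zero] }
  have hJ_le : KaehlerDifferential.ideal W B ≤ Np := by
    rw [← KaehlerDifferential.span_range_eq_ideal, Ideal.span_le]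
    rintro _ ⟨b, rfl⟩
    exact hgen b
  have hsub : Subsingleton (Ω[B⁄W]) := inferInstance
  have hidem : IsIdempotentElem (KaehlerDifferential.ideal W B) :=
    (Ideal.cotangent_subsingleton_iff _).mp hsub
  obtain ⟨e, he, hJe⟩ := (Ideal.isIdempotentElem_iff_of_fg _
    (KaehlerDifferential.ideal_fg W B)).mp hidem
  have he0 : e = 0 := by
    have hmem : e ∈ Np := hJ_le (by rw [hJe]; exact Ideal.mem_span_singleton_self e)
    have h : e ^ p = 0 := hmem
    obtain ⟨n, hn⟩ := Nat.exists_eq_succ_of_ne_zero hp.out.ne_zero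
    rw [hn, he.pow_succ_eq] at h
    exact h
  have hJ0 : KaehlerDifferential.ideal W B = ⊥ := by
    rw [hJe, he0]
    simp
  have hepi : Algebra.IsEpi W B := by
    rw [Algebra.isEpi_iff_forall_one_tmul_eq]
    intro b
    have : (1 : B) ⊗ₜ[W] b - b ⊗ₜ[W] (1 : B) ∈ KaehlerDifferential.ideal W B :=
      KaehlerDifferential.one_smul_sub_smul_one_mem_ideal W b
    rw [hJ0] at this
    exact sub_eq_zero.mp this
  haveI : Algebra.IsIntegral W B := by
    constructor
    intro b
    obtain ⟨w, hw⟩ := h1 b
    refine ⟨Polynomial.X ^ p - Polynomial.C w, Polynomial.monic_X_pow_sub_C w hp.out.ne_zero, ?_⟩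
    simp [halg, hw]
  haveI : Module.Finite W B := Algebra.IsIntegral.finite
  have hsurj : Function.Surjective f := Algebra.isEpi_iff_surjective_algebraMap_of_finite.mp hepi
  have hKfg : (RingHom.ker f.toRingHom).FG := Algebra.FinitePresentation.ker_fG_of_surjective f hsurj
  have hKnil : IsNilpotent (RingHom.ker (f : W →+* B)) := by
    change IsNilpotent (RingHom.ker f.toRingHom)
    rw [Ideal.FG.isNilpotent_iff_le_nilradical hKfg]
    intro w hw
    exact ⟨p, h2 w hw⟩
  let s : B →ₐ[T] W := Algebra.FormallySmooth.liftOfSurjective (AlgHom.id T B) f hsurj hKnil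
  have hs : ∀ b, f (s b) = b := fun b =>
    Algebra.FormallySmooth.liftOfSurjective_apply (AlgHom.id T B) f hsurj hKnil b
  have hsf : s.comp f = AlgHom.id T W := by
    apply Algebra.FormallyUnramified.lift_unique_of_ringHom (f : W →+* B) hKnil
    ext w
    simp [hs]
  refine ⟨fun x y hxy => ?_, hsurj⟩
  have hx := congrArg (fun g : W →ₐ[T] W => g x) hsf
  have hy := congrArg (fun g : W →ₐ[T] W => g y) hsf
  simp only [AlgHom.comp_apply, AlgHom.id_apply] at hx hy
  rw [← hx, ← hy, hxy]


end Groth.Agent.Lib.Helper6.FrobSm
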