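import Mathlib
import Groth.Agent.Lib.Helper6.FrobSm.Radicial

set_option linter.unusedSectionVars false
set_option linter.unusedVariables false
set_option linter.unusedSimpArgs false
set_option autoImplicit false
set_option linter.style.haveILetI false
set_option maxHeartbeats 400000

/-!
# The relative Frobenius square of an étale map is a pushout (abstract form) (helper6)
-/

universe u₁ u₂ u₃ u₄

open TensorProduct

namespace Groth.Agent.Lib.Helper6.FrobSm

open Groth.Agent.Lib.Helper6.Versch.ER

section Abstract

variable {V : Type u₁} {P' : Type u₂} {W : Type u₃} {B : Type u₄}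
  [CommRing V] [CommRing P'] [CommRing W] [CommRing B]
  [Algebra V P'] [Algebra V W] [Algebra P' B] [Algebra W B] [Algebra V B]
  [IsScalarTower V P' B] [IsScalarTower V W B]

/-- the comparison map `P' ⊗[V] W → B` as a `P'`-algebra map -/
noncomputable def theta : P' ⊗[V] W →ₐ[P'] B :=
  { Algebra.TensorProduct.productMap (IsScalarTower.toAlgHom V P' B) (IsScalarTower.toAlgHom V W B) with
    commutes' := fun x => by
      change Algebra.TensorProduct.productMap (IsScalarTower.toAlgHom V P' B)
        (IsScalarTower.toAlgHom V W B) (x ⊗ₜ[V] (1 : W)) = algebraMap P' B x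
      rw [Algebra.TensorProduct.productMap_apply_tmul, map_one, mul_one]
      rfl }

theorem theta_tmul (x : P') (w : W) :
    theta (V := V) (P' := P') (W := W) (B := B) (x ⊗ₜ[V] w) = algebraMap P' B x * algebraMap W B w := by
  change Algebra.TensorProduct.productMap (IsScalarTower.toAlgHom V P' B)
        (IsScalarTower.toAlgHom V W B) (x ⊗ₜ[V] w) = _
  rw [Algebra.TensorProduct.productMap_apply_tmul]
  rfl

theorem theta_bijective [Algebra.Etale V W] [Algebra.Etale P' B] (p : ℕ) [hp : Fact p.Prime]
    (hpV : ((p : ℕ) : V) = 0)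
    (h : B →+* W) (hh : ∀ w : W, h (algebraMap W B w) = w ^ p)
    (hh' : ∀ b : B, algebraMap W B (h b) = b ^ p)
    (ν : P' → V) (hν1 : ∀ x, h (algebraMap P' B x) = algebraMap V W (ν x))
    (hν2 : ∀ x, algebraMap V P' (ν x) = x ^ p) :
    Function.Bijective (theta (V := V) (P' := P') (W := W) (B := B)) := by
  have hpP : ((p : ℕ) : P') = 0 := by
    rw [← map_natCast (algebraMap V P') p, hpV, map_zero]
  have hpPW : ((p : ℕ) : P' ⊗[V] W) = 0 := by
    rw [← map_natCast (algebraMap V (P' ⊗[V] W)) p, hpV, map_zero]
  apply bijective_of_etale_of_pow_mem' p hpP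
  · intro b
    refine ⟨(1 : P') ⊗ₜ[V] h b, ?_⟩
    rw [theta_tmul, map_one, one_mul, hh']
  · intro z hz
    have key : ∀ z : P' ⊗[V] W, z ^ p = (1 : P') ⊗ₜ[V] h (theta z) := by
      intro z
      induction z using TensorProduct.induction_on with
      | zero => rw [map_zero, map_zero, TensorProduct.tmul_zero, zero_pow hp.out.ne_zero]
      | add x y hx hy =>
        rw [add_pow_of_cast_eq_zero p hpPW, hx, hy, map_add, map_add, TensorProduct.tmul_add]
      | tmul x w =>
        rw [theta_tmul, map_mul, hν1, hh, Algebra.TensorProduct.tmul_pow, ← Algebra.smul_def,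
          ← TensorProduct.smul_tmul, Algebra.smul_def, mul_one, hν2]
    rw [key, hz, map_zero, TensorProduct.tmul_zero]

attribute [local instance] Algebra.TensorProduct.rightAlgebra in
theorem flat_of_flat [Algebra.Etale V W] [Algebra.Etale P' B] (p : ℕ) [hp : Fact p.Prime]
    (hpV : ((p : ℕ) : V) = 0)
    (h : B →+* W) (hh : ∀ w : W, h (algebraMap W B w) = w ^ p)
    (hh' : ∀ b : B, algebraMap W B (h b) = b ^ p)
    (ν : P' → V) (hν1 : ∀ x, h (algebraMap P' B x) = algebraMap V W (ν x))
    (hν2 : ∀ x, algebraMap V P' (ν x) = x ^ p)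
    (hflat : Module.Flat V P') : Module.Flat W B := by
  have hθ := theta_bijective (V := V) (P' := P') (W := W) (B := B) p hpV h hh hh' ν hν1 hν2
  haveI h1 : Module.Flat W (P' ⊗[V] W) :=
    Module.Flat.isBaseChange (R := V) (S := W) (M := P') (P' ⊗[V] W)
      (TensorProduct.isPushout' (R := V) (S := P') (T := W)).out
  -- `theta` is `W`-linear
  let θW : (P' ⊗[V] W) →ₗ[W] B :=
    { toFun := theta (V := V) (P' := P') (W := W) (B := B)
      map_add' := map_add _
      map_smul' := fun w z => by
        rw [Algebra.smul_def, map_mul, RingHom.id_apply, Algebra.smul_def]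
        congr 1
        change theta (V := V) (P' := P') (W := W) (B := B) ((1 : P') ⊗ₜ[V] w) = _
        rw [theta_tmul, map_one, one_mul] }
  exact Module.Flat.of_linearEquiv (LinearEquiv.ofBijective θW hθ).symm

end Abstract

section Abstract'

variable {V : Type u₁} {P' : Type u₂} {W : Type u₃} {B : Type u₄}
  [CommRing V] [CommRing P'] [CommRing W] [CommRing B]
  [Algebra V P'] [Algebra V W] [Algebra P' B] [Algebra W B]

theorem flat_of_flat' [Algebra.Etale V W] [Algebra.Etale P' B] (p : ℕ) [hp : Fact p.Prime]
    (hcomm : ∀ v : V, algebraMap W B (algebraMap V W v) = algebraMap P' B (algebraMap V P' v))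
    (hpV : ((p : ℕ) : V) = 0)
    (h : B →+* W) (hh : ∀ w : W, h (algebraMap W B w) = w ^ p)
    (hh' : ∀ b : B, algebraMap W B (h b) = b ^ p)
    (ν : P' → V) (hν1 : ∀ x, h (algebraMap P' B x) = algebraMap V W (ν x))
    (hν2 : ∀ x, algebraMap V P' (ν x) = x ^ p)
    (hflat : Module.Flat V P') : Module.Flat W B := by
  letI : Algebra V B := ((algebraMap P' B).comp (algebraMap V P')).toAlgebra
  haveI : IsScalarTower V P' B := IsScalarTower.of_algebraMap_eq (fun v => rfl)
  haveI : IsScalarTower V W B := IsScalarTower.of_algebraMap_eq (fun v => (hcomm v).symm)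
  exact flat_of_flat p hpV h hh hh' ν hν1 hν2 hflat

end Abstract'

end Groth.Agent.Lib.Helper6.FrobSm
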