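import Mathlib
import Groth.Prelude.Def_FrobAlg
import Groth.Agent.Lib.Helper6.FrobSm.Poly
import Groth.Agent.Lib.Helper6.FrobSm.Pushout

set_option linter.unusedSectionVars false
set_option linter.unusedVariables false
set_option linter.unusedSimpArgs false
set_option autoImplicit false
set_option linter.style.haveILetI false
set_option maxHeartbeats 400000

/-!
# The relative Frobenius of a smooth algebra is flat (helper6)
-/

universe u v w

open TensorProduct MvPolynomial

namespace Groth.Agent.Lib.Helper6.FrobSm

open Groth.Agent.Lib.Helper6.Versch.ER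

section Basic

variable (p : ℕ) [hp : Fact p.Prime] (A : Type u) [CommRing A] [CharP A p]
  (B : Type v) [CommRing B] [Algebra A B] [CharP B p]

theorem relFrob_tmul'' (b : B) (t : FrobAlg.Twist p A) :
    FrobAlg.relFrob p A B (b ⊗ₜ[A] t) = b ^ p * algebraMap A B ((FrobAlg.toTwist p A).symm t) := rfl

theorem natCast_baseChange' : ((p : ℕ) : FrobAlg.BaseChange p A B) = 0 := by
  rw [← map_natCast (algebraMap A (FrobAlg.BaseChange p A B)) p, CharP.cast_eq_zero A p, map_zero]

theorem pow_p_eq_includeLeft' (w : FrobAlg.BaseChange p A B) :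
    w ^ p = (FrobAlg.relFrob p A B w) ⊗ₜ[A] (1 : FrobAlg.Twist p A) := by
  induction w using TensorProduct.induction_on with
  | zero => rw [map_zero, zero_pow hp.out.ne_zero, TensorProduct.zero_tmul]
  | add x y hx hy =>
    rw [add_pow_of_cast_eq_zero p (natCast_baseChange' p A B), hx, hy, map_add,
      TensorProduct.add_tmul]
  | tmul b t =>
    rw [relFrob_tmul'', Algebra.TensorProduct.tmul_pow, mul_comm, ← Algebra.smul_def,
      TensorProduct.smul_tmul, Algebra.smul_def, mul_one, FrobAlg.algebraMap_twist, map_pow,
      RingEquiv.apply_symm_apply]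

end Basic

section Natural

variable (p : ℕ) [hp : Fact p.Prime] (A : Type u) [CommRing A] [CharP A p]
  (P : Type w) [CommRing P] [Algebra A P] [CharP P p]
  (B : Type v) [CommRing B] [Algebra A B] [CharP B p]
  [Algebra P B] [IsScalarTower A P B]

/-- the map of Frobenius twists induced by `P → B` -/
noncomputable def twistMap : FrobAlg.BaseChange p A P →ₐ[A] FrobAlg.BaseChange p A B :=
  Algebra.TensorProduct.map (IsScalarTower.toAlgHom A P B) (AlgHom.id A (FrobAlg.Twist p A))

theorem twistMap_tmul (x : P) (t : FrobAlg.Twist p A) :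
    twistMap p A P B (x ⊗ₜ[A] t) = (algebraMap P B x) ⊗ₜ[A] t := rfl

theorem relFrob_twistMap (z : FrobAlg.BaseChange p A P) :
    FrobAlg.relFrob p A B (twistMap p A P B z) = algebraMap P B (FrobAlg.relFrob p A P z) := by
  induction z using TensorProduct.induction_on with
  | zero => rw [map_zero, map_zero, map_zero, map_zero]
  | add x y hx hy => rw [map_add, map_add, map_add, map_add, hx, hy]
  | tmul x t =>
    rw [twistMap_tmul, relFrob_tmul'', relFrob_tmul'', map_mul, map_pow,
      ← IsScalarTower.algebraMap_apply]

/-- the algebra structure of `B^{(p)}` over `P^{(p)}` -/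
@[reducible] noncomputable def twistAlgebra :
    Algebra (FrobAlg.BaseChange p A P) (FrobAlg.BaseChange p A B) :=
  (twistMap p A P B).toRingHom.toAlgebra

attribute [local instance] twistAlgebra

theorem twistTower : IsScalarTower P (FrobAlg.BaseChange p A P) (FrobAlg.BaseChange p A B) :=
  IsScalarTower.of_algebraMap_eq (fun x => rfl)

attribute [local instance] twistTower

theorem isPushout_twist :
    Algebra.IsPushout P B (FrobAlg.BaseChange p A P) (FrobAlg.BaseChange p A B) :=
  Algebra.IsPushout.tensorProduct_tensorProduct A (FrobAlg.Twist p A) P B (by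
      ext t
      change twistMap p A P B ((1 : P) ⊗ₜ[A] t) = (1 : B) ⊗ₜ[A] t
      rw [twistMap_tmul, map_one])

theorem twistMap_flat (h : Module.Flat P B) :
    Module.Flat (FrobAlg.BaseChange p A P) (FrobAlg.BaseChange p A B) := by
  haveI po := (isPushout_twist p A P B).symm
  exact Module.Flat.isBaseChange (R := P) (S := FrobAlg.BaseChange p A P) (M := B)
    (FrobAlg.BaseChange p A B) po.out

theorem twistMap_etale [Algebra.Etale P B] :
    Algebra.Etale (FrobAlg.BaseChange p A P) (FrobAlg.BaseChange p A B) := by
  haveI po := (isPushout_twist p A P B).symm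
  exact Algebra.Etale.of_equiv (Algebra.IsPushout.equiv P (FrobAlg.BaseChange p A P) B
    (FrobAlg.BaseChange p A B))

theorem relFrob_flat_of_etale [Algebra.Etale P B] (hP : (FrobAlg.relFrob p A P).Flat) :
    (FrobAlg.relFrob p A B).Flat := by
  haveI eVW : Algebra.Etale (FrobAlg.BaseChange p A P) (FrobAlg.BaseChange p A B) :=
    twistMap_etale p A P B
  have hpV : ((p : ℕ) : FrobAlg.BaseChange p A P) = 0 := natCast_baseChange' p A P
  letI iVP : Algebra (FrobAlg.BaseChange p A P) P := (FrobAlg.relFrob p A P).toAlgebra
  letI iWB : Algebra (FrobAlg.BaseChange p A B) B := (FrobAlg.relFrob p A B).toAlgebra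
  have key := flat_of_flat' (V := FrobAlg.BaseChange p A P) (P' := P)
    (W := FrobAlg.BaseChange p A B) (B := B) p
    (fun z => relFrob_twistMap p A P B z) hpV
    (Algebra.TensorProduct.includeLeft : B →ₐ[A] FrobAlg.BaseChange p A B).toRingHom
    (fun w => (pow_p_eq_includeLeft' p A B w).symm)
    (fun b => by
      change FrobAlg.relFrob p A B (b ⊗ₜ[A] (1 : FrobAlg.Twist p A)) = b ^ p
      rw [relFrob_tmul'', map_one, map_one, mul_one])
    (fun x => x ⊗ₜ[A] (1 : FrobAlg.Twist p A))
    (fun x => rfl)
    (fun x => by
      change FrobAlg.relFrob p A P (x ⊗ₜ[A] (1 : FrobAlg.Twist p A)) = x ^ p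
      rw [relFrob_tmul'', map_one, map_one, mul_one])
    hP
  exact key

end Natural

section Span

theorem flat_of_span {R : Type*} {S : Type*} [CommRing R] [CommRing S] (f : R →+* S) (s : Set S)
    (hs : Ideal.span s = ⊤)
    (H : ∀ r : s, ((algebraMap S (Localization.Away (r : S))).comp f).Flat) : f.Flat := by
  algebraize_only [f]
  refine Module.flat_of_isLocalized_span _ _ s hs _
    (fun r ↦ Algebra.linearMap S <| Localization.Away r.1) ?_
  dsimp only [RingHom.Flat] at H
  convert! H; ext
  apply Algebra.smul_def

end Span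

section Main

variable (p : ℕ) [hp : Fact p.Prime] (A : Type u) [CommRing A] [CharP A p]
  (B : Type v) [CommRing B] [Algebra A B] [CharP B p]

theorem relFrob_flat_of_ringHom_etale (n : ℕ) (g : MvPolynomial (Fin n) A →+* B)
    (hg : g.comp C = algebraMap A B) (hget : g.Etale) : (FrobAlg.relFrob p A B).Flat := by
  letI : Algebra (MvPolynomial (Fin n) A) B := g.toAlgebra
  haveI : IsScalarTower A (MvPolynomial (Fin n) A) B :=
    IsScalarTower.of_algebraMap_eq (fun a => (RingHom.congr_fun hg a).symm)
  haveI : Algebra.Etale (MvPolynomial (Fin n) A) B := hget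
  exact relFrob_flat_of_etale p A (MvPolynomial (Fin n) A) B (relFrob_flat p A (Fin n))

theorem charP_of_nontrivial (C : Type v) [CommRing C] [Algebra A C] [Nontrivial C] : CharP C p := by
  have hC : ((p : ℕ) : C) = 0 := by
    rw [← map_natCast (algebraMap A C) p, CharP.cast_eq_zero A p, map_zero]
  obtain ⟨q, hq⟩ := CharP.exists C
  have hdvd : q ∣ p := (CharP.cast_eq_zero_iff C q p).mp hC
  rcases (Nat.dvd_prime hp.out).mp hdvd with h1 | h1
  · subst h1
    have h01 := CharP.cast_eq_zero C 1
    rw [Nat.cast_one] at h01
    exact absurd h01 one_ne_zero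
  · subst h1; exact hq

theorem relFrob_flat_of_smooth [Algebra.Smooth A B] : (FrobAlg.relFrob p A B).Flat := by
  obtain ⟨s, hs, hstd⟩ := Algebra.Smooth.exists_span_eq_top_isStandardSmooth A B
  apply flat_of_span _ s hs
  rintro ⟨x, hx⟩
  have hst := hstd x hx
  rcases subsingleton_or_nontrivial (Localization.Away x) with hsub | hnt
  · letI := ((algebraMap B (Localization.Away x)).comp (FrobAlg.relFrob p A B)).toAlgebra
    change Module.Flat (FrobAlg.BaseChange p A B) (Localization.Away x)
    infer_instance
  · haveI : CharP (Localization.Away x) p := charP_of_nontrivial p A (Localization.Away x)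
    have h1 : (algebraMap B (Localization.Away x)).comp (FrobAlg.relFrob p A B)
        = (FrobAlg.relFrob p A (Localization.Away x)).comp
          (twistMap p A B (Localization.Away x)).toRingHom := by
      apply RingHom.ext
      intro z
      exact (relFrob_twistMap p A B (Localization.Away x) z).symm
    rw [h1]
    apply RingHom.Flat.comp
    · exact twistMap_flat p A B (Localization.Away x) (IsLocalization.flat _ (Submonoid.powers x))
    · have hss : (algebraMap A (Localization.Away x)).IsStandardSmooth :=
        RingHom.isStandardSmooth_algebraMap.mpr hst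
      obtain ⟨n, g, hg, hget⟩ := RingHom.IsStandardSmooth.exists_etale_mvPolynomial hss
      exact relFrob_flat_of_ringHom_etale p A (Localization.Away x) n g hg hget

end Main

end Groth.Agent.Lib.Helper6.FrobSm
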