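import Mathlib
import Groth.Agent.Lib.Helper6.FrobSm.Pushout

set_option linter.unusedSectionVars false
set_option linter.unusedVariables false
set_option linter.unusedSimpArgs false
set_option autoImplicit false
set_option linter.style.haveILetI false
set_option maxHeartbeats 400000

/-!
# The relative Frobenius square of an étale map is a pushout: rank consequences (helper6)
-/

universe u₁ u₂ u₃ u₄

open TensorProduct

namespace Groth.Agent.Lib.Helper6.FrobSm

section Abstract

variable {V : Type u₁} {P' : Type u₂} {W : Type u₃} {B : Type u₄}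
  [CommRing V] [CommRing P'] [CommRing W] [CommRing B]
  [Algebra V P'] [Algebra V W] [Algebra P' B] [Algebra W B] [Algebra V B]
  [IsScalarTower V P' B] [IsScalarTower V W B]

attribute [local instance] Algebra.TensorProduct.rightAlgebra in
theorem isPushout_of_theta_bijective
    (hθ : Function.Bijective (theta (V := V) (P' := P') (W := W) (B := B))) :
    Algebra.IsPushout V P' W B := by
  haveI h0 : Algebra.IsPushout V P' W (P' ⊗[V] W) := TensorProduct.isPushout
  refine Algebra.IsPushout.of_equiv (R := V) (R' := P') (S := W) (S' := P' ⊗[V] W)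
    (AlgEquiv.ofBijective (theta (V := V) (P' := P') (W := W) (B := B)) hθ) ?_
  apply RingHom.ext
  intro w
  change theta (V := V) (P' := P') (W := W) (B := B) ((1 : P') ⊗ₜ[V] w) = _
  rw [theta_tmul, map_one, one_mul]

theorem isPushout_of_etale [Algebra.Etale V W] [Algebra.Etale P' B] (p : ℕ) [hp : Fact p.Prime]
    (hpV : ((p : ℕ) : V) = 0)
    (h : B →+* W) (hh : ∀ w : W, h (algebraMap W B w) = w ^ p)
    (hh' : ∀ b : B, algebraMap W B (h b) = b ^ p)
    (ν : P' → V) (hν1 : ∀ x, h (algebraMap P' B x) = algebraMap V W (ν x))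
    (hν2 : ∀ x, algebraMap V P' (ν x) = x ^ p) :
    Algebra.IsPushout V P' W B :=
  isPushout_of_theta_bijective (theta_bijective p hpV h hh hh' ν hν1 hν2)

end Abstract

section Abstract'

variable {V : Type u₁} {P' : Type u₂} {W : Type u₃} {B : Type u₄}
  [CommRing V] [CommRing P'] [CommRing W] [CommRing B]
  [Algebra V P'] [Algebra V W] [Algebra P' B] [Algebra W B]

theorem rank_eq_of_etale [Algebra.Etale V W] [Algebra.Etale P' B] (p : ℕ) [hp : Fact p.Prime]
    (hcomm : ∀ v : V, algebraMap W B (algebraMap V W v) = algebraMap P' B (algebraMap V P' v))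
    (hpV : ((p : ℕ) : V) = 0)
    (h : B →+* W) (hh : ∀ w : W, h (algebraMap W B w) = w ^ p)
    (hh' : ∀ b : B, algebraMap W B (h b) = b ^ p)
    (ν : P' → V) (hν1 : ∀ x, h (algebraMap P' B x) = algebraMap V W (ν x))
    (hν2 : ∀ x, algebraMap V P' (ν x) = x ^ p)
    [Module.Flat V P'] [Module.Finite V P'] (x : PrimeSpectrum W) :
    Module.rankAtStalk (R := W) B x
      = Module.rankAtStalk (R := V) P' (PrimeSpectrum.comap (algebraMap V W) x) := by
  letI : Algebra V B := ((algebraMap P' B).comp (algebraMap V P')).toAlgebra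
  haveI : IsScalarTower V P' B := IsScalarTower.of_algebraMap_eq (fun v => rfl)
  haveI : IsScalarTower V W B := IsScalarTower.of_algebraMap_eq (fun v => (hcomm v).symm)
  haveI : Algebra.IsPushout V P' W B := isPushout_of_etale p hpV h hh hh' ν hν1 hν2
  exact Algebra.rankAtStalk_eq_of_isPushout V P' W B x

end Abstract'

end Groth.Agent.Lib.Helper6.FrobSm
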