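import Mathlib
import Groth.Prelude.Def_FrobAlg
import Groth.Agent.Lib.Helper6.FrobSm.Smooth
import Groth.Agent.Lib.Helper6.FrobSm.PushoutRank

set_option linter.unusedSectionVars false
set_option linter.unusedVariables false
set_option linter.unusedSimpArgs false
set_option autoImplicit false
set_option linter.style.haveILetI false
set_option maxHeartbeats 400000

/-!
# The relative Frobenius of a smooth algebra of relative dimension `r` is finite locally free
of rank `p ^ r` (helper6)
-/

universe u v w

open TensorProduct MvPolynomial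

namespace Groth.Agent.Lib.Helper6.FrobSm

open Groth.Agent.Lib.Helper6.Versch.ER

section FinProj

variable (p : ℕ) [hp : Fact p.Prime] (A : Type u) [CommRing A] [CharP A p]
  (B : Type v) [CommRing B] [Algebra A B] [CharP B p]

theorem relFrob_isIntegral : (FrobAlg.relFrob p A B).IsIntegral := by
  intro b
  refine ⟨Polynomial.X ^ p - Polynomial.C (b ⊗ₜ[A] (1 : FrobAlg.Twist p A)),
    Polynomial.monic_X_pow_sub_C _ hp.out.ne_zero, ?_⟩
  rw [Polynomial.eval₂_sub, Polynomial.eval₂_pow, Polynomial.eval₂_X, Polynomial.eval₂_C,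
    relFrob_tmul'', map_one, map_one, mul_one, sub_self]

/-- the Frobenius twist, with its right algebra structure, is the base change of `B` -/
noncomputable def commEquiv' :
    (FrobAlg.Twist p A ⊗[A] B) ≃ₐ[FrobAlg.Twist p A] FrobAlg.BaseChange p A B :=
  AlgEquiv.ofRingEquiv (f := (Algebra.TensorProduct.comm A (FrobAlg.Twist p A) B).toRingEquiv)
    (fun t => by
      change (Algebra.TensorProduct.comm A (FrobAlg.Twist p A) B) (t ⊗ₜ[A] (1 : B)) = _
      rw [Algebra.TensorProduct.comm_tmul]
      rfl)

theorem finiteType_twist [Algebra.FiniteType A B] :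
    Algebra.FiniteType (FrobAlg.Twist p A) (FrobAlg.BaseChange p A B) :=
  Algebra.FiniteType.equiv inferInstance (commEquiv' p A B)

theorem relFrob_comp_algebraMap :
    (FrobAlg.relFrob p A B).comp (algebraMap (FrobAlg.Twist p A) (FrobAlg.BaseChange p A B))
      = (algebraMap A B).comp ((FrobAlg.toTwist p A).symm : FrobAlg.Twist p A →+* A) := by
  apply RingHom.ext
  intro t
  change FrobAlg.relFrob p A B ((1 : B) ⊗ₜ[A] t) = _
  rw [relFrob_tmul'', one_pow, one_mul]
  rfl

theorem relFrob_finiteType [Algebra.FiniteType A B] : (FrobAlg.relFrob p A B).FiniteType := by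
  have h1 : ((FrobAlg.relFrob p A B).comp
      (algebraMap (FrobAlg.Twist p A) (FrobAlg.BaseChange p A B))).FiniteType := by
    rw [relFrob_comp_algebraMap]
    exact (RingHom.finiteType_algebraMap.mpr inferInstance).comp
      (RingHom.FiniteType.of_surjective _ (FrobAlg.toTwist p A).symm.surjective)
  exact RingHom.FiniteType.of_comp_finiteType h1

theorem relFrob_finitePresentation [Algebra.FinitePresentation A B] :
    (FrobAlg.relFrob p A B).FinitePresentation := by
  have h1 : ((FrobAlg.relFrob p A B).comp
      (algebraMap (FrobAlg.Twist p A) (FrobAlg.BaseChange p A B))).FinitePresentation := by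
    rw [relFrob_comp_algebraMap]
    refine (RingHom.finitePresentation_algebraMap.mpr inferInstance).comp
      (RingHom.FinitePresentation.of_surjective _ (FrobAlg.toTwist p A).symm.surjective ?_)
    have hk : RingHom.ker ((FrobAlg.toTwist p A).symm : FrobAlg.Twist p A →+* A) = ⊥ :=
      (RingHom.injective_iff_ker_eq_bot _).mp (FrobAlg.toTwist p A).symm.injective
    rw [hk]
    exact Submodule.fg_bot
  refine RingHom.FinitePresentation.of_comp_finiteType _ h1 ?_
  exact RingHom.finiteType_algebraMap.mpr (finiteType_twist p A B)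

theorem relFrob_finite [Algebra.FiniteType A B] : (FrobAlg.relFrob p A B).Finite :=
  RingHom.IsIntegral.to_finite (relFrob_isIntegral p A B) (relFrob_finiteType p A B)

theorem relFrob_module_finite [Algebra.FiniteType A B] :
    letI := (FrobAlg.relFrob p A B).toAlgebra
    Module.Finite (FrobAlg.BaseChange p A B) B :=
  relFrob_finite p A B

theorem relFrob_module_projective [Algebra.Smooth A B] :
    letI := (FrobAlg.relFrob p A B).toAlgebra
    Module.Projective (FrobAlg.BaseChange p A B) B := by
  letI iWB : Algebra (FrobAlg.BaseChange p A B) B := (FrobAlg.relFrob p A B).toAlgebra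
  haveI : Module.Finite (FrobAlg.BaseChange p A B) B := relFrob_finite p A B
  haveI : Algebra.FinitePresentation (FrobAlg.BaseChange p A B) B :=
    relFrob_finitePresentation p A B
  haveI : Module.Flat (FrobAlg.BaseChange p A B) B := relFrob_flat_of_smooth p A B
  haveI : Module.FinitePresentation (FrobAlg.BaseChange p A B) B :=
    Module.FinitePresentation.of_finite_of_finitePresentation _ _
  exact Module.Flat.projective_of_finitePresentation

end FinProj

section PolyRank

variable (p : ℕ) [hp : Fact p.Prime] (A : Type u) [CommRing A] [CharP A p]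
  (σ : Type v) [Fintype σ] [CharP (MvPolynomial σ A) p]

/-- the basis of `A[x]` over its Frobenius twist -/
noncomputable def polyBasis :
    letI := (FrobAlg.relFrob p A (MvPolynomial σ A)).toAlgebra
    Module.Basis (σ → Fin p) (FrobAlg.BaseChange p A (MvPolynomial σ A)) (MvPolynomial σ A) := by
  letI iVP : Algebra (FrobAlg.BaseChange p A (MvPolynomial σ A)) (MvPolynomial σ A) :=
    (FrobAlg.relFrob p A (MvPolynomial σ A)).toAlgebra
  letI iVE : Module (FrobAlg.BaseChange p A (MvPolynomial σ A)) (ExpT σ A p) :=
    Module.compHom (ExpT σ A p) (rho p A σ : _ →+* MvPolynomial σ A)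
  have hsm : ∀ (v : FrobAlg.BaseChange p A (MvPolynomial σ A)) (x : ExpT σ A p),
      v • x = (rho p A σ v) • x := fun v x => rfl
  let b1 : Module.Basis (σ → Fin p) (FrobAlg.BaseChange p A (MvPolynomial σ A)) (ExpT σ A p) :=
    (expBasis (σ := σ) (R := A) hp.out.ne_zero).mapCoeffs (rho p A σ).symm (fun c x => by
      rw [hsm, RingEquiv.apply_symm_apply])
  let e : ExpT σ A p ≃ₗ[FrobAlg.BaseChange p A (MvPolynomial σ A)] MvPolynomial σ A :=
    { toFun := (toExpT σ A p).symm
      invFun := toExpT σ A p
      map_add' := map_add _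
      map_smul' := fun v x => by
        rw [hsm, smul_expT, RingEquiv.symm_apply_apply, RingHom.id_apply, Algebra.smul_def]
        congr 1
        change _ = FrobAlg.relFrob p A (MvPolynomial σ A) v
        rw [relFrob_eq]
        rfl
      left_inv := fun x => rfl
      right_inv := fun x => rfl }
  exact b1.map e

theorem poly_free :
    letI := (FrobAlg.relFrob p A (MvPolynomial σ A)).toAlgebra
    Module.Free (FrobAlg.BaseChange p A (MvPolynomial σ A)) (MvPolynomial σ A) := by
  letI iVP : Algebra (FrobAlg.BaseChange p A (MvPolynomial σ A)) (MvPolynomial σ A) :=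
    (FrobAlg.relFrob p A (MvPolynomial σ A)).toAlgebra
  exact Module.Free.of_basis (polyBasis p A σ)

theorem poly_finite :
    letI := (FrobAlg.relFrob p A (MvPolynomial σ A)).toAlgebra
    Module.Finite (FrobAlg.BaseChange p A (MvPolynomial σ A)) (MvPolynomial σ A) := by
  letI iVP : Algebra (FrobAlg.BaseChange p A (MvPolynomial σ A)) (MvPolynomial σ A) :=
    (FrobAlg.relFrob p A (MvPolynomial σ A)).toAlgebra
  exact Module.Finite.of_basis (polyBasis p A σ)

theorem poly_finrank :
    letI := (FrobAlg.relFrob p A (MvPolynomial σ A)).toAlgebra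
    Module.finrank (FrobAlg.BaseChange p A (MvPolynomial σ A)) (MvPolynomial σ A)
      = p ^ Fintype.card σ := by
  classical
  letI iVP : Algebra (FrobAlg.BaseChange p A (MvPolynomial σ A)) (MvPolynomial σ A) :=
    (FrobAlg.relFrob p A (MvPolynomial σ A)).toAlgebra
  haveI : Nontrivial A := CharP.nontrivial_of_char_ne_one (R := A) (v := p) hp.out.ne_one
  haveI : Nontrivial (FrobAlg.BaseChange p A (MvPolynomial σ A)) :=
    (rho p A σ).symm.injective.nontrivial
  rw [Module.finrank_eq_card_basis (polyBasis p A σ)]
  simp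

theorem poly_rankAtStalk (q : PrimeSpectrum (FrobAlg.BaseChange p A (MvPolynomial σ A))) :
    letI := (FrobAlg.relFrob p A (MvPolynomial σ A)).toAlgebra
    Module.rankAtStalk (R := FrobAlg.BaseChange p A (MvPolynomial σ A)) (MvPolynomial σ A) q
      = p ^ Fintype.card σ := by
  letI iVP : Algebra (FrobAlg.BaseChange p A (MvPolynomial σ A)) (MvPolynomial σ A) :=
    (FrobAlg.relFrob p A (MvPolynomial σ A)).toAlgebra
  haveI := poly_free p A σ
  rw [Module.rankAtStalk_eq_finrank_of_free]
  exact poly_finrank p A σ

end PolyRank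

section NaturalRank

variable (p : ℕ) [hp : Fact p.Prime] (A : Type u) [CommRing A] [CharP A p]
  (P : Type w) [CommRing P] [Algebra A P] [CharP P p]
  (B : Type v) [CommRing B] [Algebra A B] [CharP B p]
  [Algebra P B] [IsScalarTower A P B]

attribute [local instance] twistAlgebra twistTower

theorem relFrob_rank_of_etale [Algebra.Etale P B]
    (hfl : letI := (FrobAlg.relFrob p A P).toAlgebra
      Module.Flat (FrobAlg.BaseChange p A P) P)
    (hfin : letI := (FrobAlg.relFrob p A P).toAlgebra
      Module.Finite (FrobAlg.BaseChange p A P) P)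
    (x : PrimeSpectrum (FrobAlg.BaseChange p A B)) :
    letI := (FrobAlg.relFrob p A P).toAlgebra
    letI := (FrobAlg.relFrob p A B).toAlgebra
    Module.rankAtStalk (R := FrobAlg.BaseChange p A B) B x
      = Module.rankAtStalk (R := FrobAlg.BaseChange p A P) P
          (PrimeSpectrum.comap (twistMap p A P B).toRingHom x) := by
  haveI eVW : Algebra.Etale (FrobAlg.BaseChange p A P) (FrobAlg.BaseChange p A B) :=
    twistMap_etale p A P B
  have hpV : ((p : ℕ) : FrobAlg.BaseChange p A P) = 0 := natCast_baseChange' p A P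
  letI iVP : Algebra (FrobAlg.BaseChange p A P) P := (FrobAlg.relFrob p A P).toAlgebra
  letI iWB : Algebra (FrobAlg.BaseChange p A B) B := (FrobAlg.relFrob p A B).toAlgebra
  haveI : Module.Flat (FrobAlg.BaseChange p A P) P := hfl
  haveI : Module.Finite (FrobAlg.BaseChange p A P) P := hfin
  exact rank_eq_of_etale (V := FrobAlg.BaseChange p A P) (P' := P)
    (W := FrobAlg.BaseChange p A B) (B := B) p
    (fun z => relFrob_twistMap p A P B z) hpV
    (Algebra.TensorProduct.includeLeft : B →ₐ[A] FrobAlg.BaseChange p A B).toRingHom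
    (fun w => (pow_p_eq_includeLeft' p A B w).symm)
    (fun b => by
      change FrobAlg.relFrob p A B (b ⊗ₜ[A] (1 : FrobAlg.Twist p A)) = b ^ p
      rw [relFrob_tmul'', map_one, map_one, mul_one])
    (fun x => x ⊗ₜ[A] (1 : FrobAlg.Twist p A))
    (fun x => rfl)
    (fun x => by
      change FrobAlg.relFrob p A P (x ⊗ₜ[A] (1 : FrobAlg.Twist p A)) = x ^ p
      rw [relFrob_tmul'', map_one, map_one, mul_one])
    x

end NaturalRank

section Loc

variable (p : ℕ) [hp : Fact p.Prime] (A : Type u) [CommRing A] [CharP A p]
  (B : Type v) [CommRing B] [Algebra A B] [CharP B p]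
  (x : B) (Bx : Type w) [CommRing Bx] [Algebra A Bx] [CharP Bx p]
  [Algebra B Bx] [IsScalarTower A B Bx] [IsLocalization.Away x Bx]

attribute [local instance] twistAlgebra twistTower

theorem isLocalizationAway_twist :
    IsLocalization.Away (x ⊗ₜ[A] (1 : FrobAlg.Twist p A) : FrobAlg.BaseChange p A B)
      (FrobAlg.BaseChange p A Bx) := by
  have h0 : Submonoid.powers (x ⊗ₜ[A] (1 : FrobAlg.Twist p A) : FrobAlg.BaseChange p A B)
      = Algebra.algebraMapSubmonoid (FrobAlg.BaseChange p A B) (Submonoid.powers x) := by simp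
  rw [IsLocalization.Away, h0]
  refine IsLocalization.tensorProduct_tensorProduct _ _ _ _ ?_
  ext t
  change twistMap p A B Bx ((1 : B) ⊗ₜ[A] t) = (1 : Bx) ⊗ₜ[A] t
  rw [twistMap_tmul, map_one]

theorem exists_comap_twist_eq (q : PrimeSpectrum (FrobAlg.BaseChange p A B))
    (hq : (x ⊗ₜ[A] (1 : FrobAlg.Twist p A) : FrobAlg.BaseChange p A B) ∉ q.asIdeal) :
    ∃ q' : PrimeSpectrum (FrobAlg.BaseChange p A Bx),
      PrimeSpectrum.comap (twistMap p A B Bx).toRingHom q' = q := by
  haveI := isLocalizationAway_twist p A B x Bx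
  have h1 := PrimeSpectrum.localization_away_comap_range (FrobAlg.BaseChange p A Bx)
    (x ⊗ₜ[A] (1 : FrobAlg.Twist p A) : FrobAlg.BaseChange p A B)
  have h2 : q ∈ (PrimeSpectrum.basicOpen
      (x ⊗ₜ[A] (1 : FrobAlg.Twist p A) : FrobAlg.BaseChange p A B) :
        Set (PrimeSpectrum (FrobAlg.BaseChange p A B))) := hq
  rw [← h1] at h2
  obtain ⟨q', hq'⟩ := h2
  exact ⟨q', hq'⟩

end Loc

section Kaehler

variable (A : Type u) [CommRing A]

theorem rank_kaehler_of_etale_mvPolynomial (n : ℕ) (C : Type v) [CommRing C] [Algebra A C]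
    [Nontrivial C] (g : MvPolynomial (Fin n) A →+* C)
    (hg : g.comp MvPolynomial.C = algebraMap A C) (hget : g.Etale) (Q : PrimeSpectrum C) :
    Module.rankAtStalk (R := C) (Ω[C⁄A]) Q = n := by
  letI : Algebra (MvPolynomial (Fin n) A) C := g.toAlgebra
  haveI : IsScalarTower A (MvPolynomial (Fin n) A) C :=
    IsScalarTower.of_algebraMap_eq (fun a => (RingHom.congr_fun hg a).symm)
  haveI : Algebra.Etale (MvPolynomial (Fin n) A) C := hget
  haveI : Nontrivial A := by
    by_contra hA
    rw [not_nontrivial_iff_subsingleton] at hA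
    have h01 : (0 : C) = 1 := by
      rw [← map_zero (algebraMap A C), ← map_one (algebraMap A C)]
      exact congrArg _ (Subsingleton.elim _ _)
    exact zero_ne_one h01
  have e := KaehlerDifferential.tensorKaehlerEquivOfFormallyEtale A (MvPolynomial (Fin n) A) C
  haveI : Module.Free (MvPolynomial (Fin n) A) (Ω[MvPolynomial (Fin n) A⁄A]) :=
    Module.Free.of_basis (KaehlerDifferential.mvPolynomialBasis A (Fin n))
  haveI : Module.Finite (MvPolynomial (Fin n) A) (Ω[MvPolynomial (Fin n) A⁄A]) :=
    Module.Finite.of_basis (KaehlerDifferential.mvPolynomialBasis A (Fin n))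
  rw [Module.rankAtStalk_eq_of_equiv e.symm, Module.rankAtStalk_baseChange,
    Module.rankAtStalk_eq_finrank_of_free,
    Module.finrank_eq_card_basis (KaehlerDifferential.mvPolynomialBasis A (Fin n))]
  simp

end Kaehler

section Main

variable (p : ℕ) [hp : Fact p.Prime] (A : Type u) [CommRing A] [CharP A p]
  (B : Type u) [CommRing B] [Algebra A B] [CharP B p]

theorem relFrob_rank_of_smooth [Algebra.Smooth A B] (r : ℕ)
    (hr : ∀ Q : PrimeSpectrum B, Module.rankAtStalk (R := B) (Ω[B⁄A]) Q = r)
    (q : PrimeSpectrum (FrobAlg.BaseChange p A B)) :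
    letI := (FrobAlg.relFrob p A B).toAlgebra
    Module.rankAtStalk (R := FrobAlg.BaseChange p A B) B q = p ^ r := by
  obtain ⟨s, hs, hstd⟩ := Algebra.Smooth.exists_span_eq_top_isStandardSmooth A B
  -- pick `x`
  have hex : ∃ x ∈ s, (x ⊗ₜ[A] (1 : FrobAlg.Twist p A) : FrobAlg.BaseChange p A B) ∉ q.asIdeal := by
    by_contra hcon
    push Not at hcon
    have hle : Ideal.span s ≤ q.asIdeal.comap
        (Algebra.TensorProduct.includeLeft : B →ₐ[A] FrobAlg.BaseChange p A B).toRingHom := by
      rw [Ideal.span_le]
      intro x hx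
      exact hcon x hx
    rw [hs] at hle
    have h1 : (1 : B) ∈ q.asIdeal.comap
        (Algebra.TensorProduct.includeLeft : B →ₐ[A] FrobAlg.BaseChange p A B).toRingHom :=
      hle Submodule.mem_top
    rw [Ideal.mem_comap, map_one] at h1
    exact q.isPrime.ne_top ((Ideal.eq_top_iff_one _).mpr h1)
  obtain ⟨x, hxs, hxq⟩ := hex
  have hst := hstd x hxs
  -- nontriviality of the localization
  haveI hnt : Nontrivial (Localization.Away x) := by
    by_contra hsub
    rw [not_nontrivial_iff_subsingleton] at hsub
    have h0 : (0 : B) ∈ Submonoid.powers x :=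
      (IsLocalization.subsingleton_iff (M := Submonoid.powers x)
        (S := Localization.Away x)).mp hsub
    obtain ⟨k, hk⟩ := h0
    have hk' : x ^ k = 0 := hk
    apply hxq
    apply q.isPrime.mem_of_pow_mem k
    rw [Algebra.TensorProduct.tmul_pow, hk', one_pow, TensorProduct.zero_tmul]
    exact zero_mem _
  haveI : CharP (Localization.Away x) p := charP_of_nontrivial p A (Localization.Away x)
  obtain ⟨q', hq'⟩ := exists_comap_twist_eq p A B x (Localization.Away x) q hxq
  have hss : (algebraMap A (Localization.Away x)).IsStandardSmooth :=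
    RingHom.isStandardSmooth_algebraMap.mpr hst
  obtain ⟨n, g, hg, hget⟩ := RingHom.IsStandardSmooth.exists_etale_mvPolynomial hss
  -- `n = r`
  have hnr : n = r := by
    obtain ⟨Q'⟩ : Nonempty (PrimeSpectrum (Localization.Away x)) := inferInstance
    have h1 := rank_kaehler_of_etale_mvPolynomial A n (Localization.Away x) g hg hget Q'
    haveI : Algebra.FormallyEtale B (Localization.Away x) :=
      Algebra.FormallyEtale.of_isLocalization (Submonoid.powers x)
    have h2 := Module.rankAtStalk_isBaseChange
      (KaehlerDifferential.isBaseChange_of_formallyEtale A B (Localization.Away x)) Q'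
    rw [h1, hr] at h2
    exact h2
  subst hnr
  letI iWB : Algebra (FrobAlg.BaseChange p A B) B := (FrobAlg.relFrob p A B).toAlgebra
  letI iWB' : Algebra (FrobAlg.BaseChange p A (Localization.Away x)) (Localization.Away x) :=
    (FrobAlg.relFrob p A (Localization.Away x)).toAlgebra
  letI iVP : Algebra (FrobAlg.BaseChange p A (MvPolynomial (Fin n) A)) (MvPolynomial (Fin n) A) :=
    (FrobAlg.relFrob p A (MvPolynomial (Fin n) A)).toAlgebra
  -- step (a)
  have ha : Module.rankAtStalk (R := FrobAlg.BaseChange p A (Localization.Away x))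
      (Localization.Away x) q'
      = Module.rankAtStalk (R := FrobAlg.BaseChange p A B) B
          (PrimeSpectrum.comap (twistMap p A B (Localization.Away x)).toRingHom q') :=
    relFrob_rank_of_etale p A B (Localization.Away x)
      (relFrob_flat_of_smooth p A B) (relFrob_module_finite p A B) q'
  -- step (b)
  letI : Algebra (MvPolynomial (Fin n) A) (Localization.Away x) := g.toAlgebra
  haveI : IsScalarTower A (MvPolynomial (Fin n) A) (Localization.Away x) :=
    IsScalarTower.of_algebraMap_eq (fun a => (RingHom.congr_fun hg a).symm)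
  haveI : Algebra.Etale (MvPolynomial (Fin n) A) (Localization.Away x) := hget
  have hb : Module.rankAtStalk (R := FrobAlg.BaseChange p A (Localization.Away x))
      (Localization.Away x) q'
      = Module.rankAtStalk (R := FrobAlg.BaseChange p A (MvPolynomial (Fin n) A))
          (MvPolynomial (Fin n) A)
          (PrimeSpectrum.comap
            (twistMap p A (MvPolynomial (Fin n) A) (Localization.Away x)).toRingHom q') :=
    relFrob_rank_of_etale p A (MvPolynomial (Fin n) A) (Localization.Away x)
      (relFrob_flat p A (Fin n)) (poly_finite p A (Fin n)) q'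
  have hc := poly_rankAtStalk p A (Fin n) (PrimeSpectrum.comap
            (twistMap p A (MvPolynomial (Fin n) A) (Localization.Away x)).toRingHom q')
  rw [← hq', ← ha, hb]
  refine hc.trans ?_
  rw [Fintype.card_fin]

end Main

end Groth.Agent.Lib.Helper6.FrobSm
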